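import Mathlib

/-! Descending chain condition for subgroups invariant under a set of operators. -/

set_option autoImplicit false
universe u v w

namespace Groth.Agent.FrobNilLib

variable {G : Type u} [AddCommGroup G]

/-- `N` is stable under the operators in `S`. -/
def Inv (S : Set (AddMonoid.End G)) (N : AddSubgroup G) : Prop := ∀ s ∈ S, ∀ x ∈ N, s x ∈ N

/-- Descending chains of `S`-stable subgroups inside `H` stabilise. -/
def DCC (S : Set (AddMonoid.End G)) (H : AddSubgroup G) : Prop :=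
  ∀ N : ℕ → AddSubgroup G, Antitone N → (∀ c, Inv S (N c)) → (∀ c, N c ≤ H) → ∃ m, ∀ c, m ≤ c → N c = N m

lemma DCC.mono {S S' : Set (AddMonoid.End G)} {H : AddSubgroup G} (h : DCC S H) (hS : S ⊆ S') : DCC S' H :=
  fun N hN hi hle => h N hN (fun c s hs => hi c s (hS hs)) hle

/-- The kernel of an operator. -/
def kerE (s : AddMonoid.End G) : AddSubgroup G where
  carrier := {x | s x = 0}
  add_mem' := fun {a b} ha hb => by simp only [Set.mem_ofPred_eq] at ha hb ⊢; rw [map_add, ha, hb, add_zero]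
  zero_mem' := map_zero s
  neg_mem' := fun {a} ha => by simp only [Set.mem_ofPred_eq] at ha ⊢; rw [map_neg, ha, neg_zero]

lemma mem_kerE {s : AddMonoid.End G} {x : G} : x ∈ kerE s ↔ s x = 0 := Iff.rfl

/-- An operator which is locally nilpotent: reduce to its kernel. -/
theorem dcc_step (S : Set (AddMonoid.End G)) (s : AddMonoid.End G) (H : AddSubgroup G)
    (hcomm : ∀ r ∈ S, ∀ x, r (s x) = s (r x)) (hH : ∀ x ∈ H, s x ∈ H)
    (hnil : ∀ x ∈ H, ∃ n, (⇑s)^[n] x = 0) (h : DCC S (H ⊓ kerE s)) :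
    DCC (insert s S) H := by
  intro N hN hi hle
  let A : ℕ → ℕ → AddSubgroup G := fun c n => (N c ⊓ kerE (s ^ (n + 1))).map (s ^ n)
  have hmem : ∀ c n y, y ∈ A c n ↔ ∃ x ∈ N c, (⇑s)^[n + 1] x = 0 ∧ (⇑s)^[n] x = y := fun c n y => by
    simp only [A, AddSubgroup.mem_map, AddSubgroup.mem_inf, mem_kerE]
    constructor
    · rintro ⟨x, ⟨hx, hk⟩, rfl⟩
      exact ⟨x, hx, by rw [← AddMonoid.End.coe_pow]; exact hk, by rw [← AddMonoid.End.coe_pow]; rfl⟩
    · rintro ⟨x, hx, hk, rfl⟩
      exact ⟨x, ⟨hx, by rw [← AddMonoid.End.coe_pow] at hk; exact hk⟩, by rw [← AddMonoid.End.coe_pow]; rfl⟩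
  have hit : ∀ c n x, x ∈ N c → (⇑s)^[n] x ∈ N c := fun c n x hx => by
    induction n with
    | zero => exact hx
    | succ n ih => rw [Function.iterate_succ_apply']; exact hi c s (Set.mem_insert _ _) _ ih
  have hAinv : ∀ c n, Inv S (A c n) := by
    intro c n r hr y hy
    obtain ⟨x, hx, hk, rfl⟩ := (hmem c n y).mp hy
    have hc : ∀ n (x : G), r ((⇑s)^[n] x) = (⇑s)^[n] (r x) := fun n => by
      induction n with
      | zero => exact fun _ => rfl
      | succ n ih => intro x; rw [Function.iterate_succ_apply', hcomm r hr, ih, Function.iterate_succ_apply']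
    exact (hmem c n _).mpr ⟨r x, hi c r (Set.mem_insert_of_mem _ hr) x hx, by rw [← hc, hk, map_zero], (hc n x).symm⟩
  have hAle : ∀ c n, A c n ≤ H ⊓ kerE s := by
    intro c n y hy
    obtain ⟨x, hx, hk, rfl⟩ := (hmem c n y).mp hy
    exact ⟨hle c (hit c n x hx), by rw [Function.iterate_succ_apply'] at hk; exact hk⟩
  have hAc : ∀ n, Antitone fun c => A c n := fun n c c' hcc y hy => by
    obtain ⟨x, hx, hk⟩ := (hmem c' n y).mp hy
    exact (hmem c n y).mpr ⟨x, hN hcc hx, hk⟩
  have hAn : ∀ c, Antitone fun n => A c n := fun c => antitone_nat_of_succ_le fun n y hy => by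
    obtain ⟨x, hx, hk, rfl⟩ := (hmem c (n + 1) y).mp hy
    refine (hmem c n _).mpr ⟨s x, hi c s (Set.mem_insert _ _) x hx, ?_, ?_⟩
    · rwa [← Function.iterate_succ_apply]
    · rw [← Function.iterate_succ_apply]
  obtain ⟨m, hm⟩ := h (fun i => A i i) (fun i j hij => (hAn j hij).trans (hAc i hij)) (fun i => hAinv i i) (fun i => hAle i i)
  choose g hg using fun n => h (fun c => A c n) (hAc n) (fun c => hAinv c n) (fun c => hAle c n)
  refine ⟨max m ((Finset.range m).sup g), fun c hc => le_antisymm (hN hc) ?_⟩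
  set M := max m ((Finset.range m).sup g)
  have hA : ∀ n, A M n = A c n := by
    intro n
    by_cases hn : n < m
    · have hgn : g n ≤ M := (Finset.le_sup (Finset.mem_range.mpr hn)).trans (le_max_right _ _)
      rw [hg n M hgn, hg n c (hgn.trans hc)]
    · have key : ∀ c', m ≤ c' → A c' n = A m m := fun c' hc' => by
        refine le_antisymm ((hAc n hc').trans (hAn m (not_lt.mp hn))) ?_
        rw [← hm (max c' n) (hc'.trans (le_max_left _ _))]
        exact (hAn _ (le_max_right c' n)).trans (hAc n (le_max_left c' n))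
      rw [key M (le_max_left _ _), key c ((le_max_left _ _).trans hc)]
  suffices ∀ n x, x ∈ N M → (⇑s)^[n] x = 0 → x ∈ N c from fun x hx => by
    obtain ⟨n, hn⟩ := hnil x (hle M hx)
    exact this n x hx hn
  intro n
  induction n with
  | zero => intro x _ h0; rw [show x = 0 from h0]; exact zero_mem _
  | succ n ih =>
    intro x hx h0
    have hy : (⇑s)^[n] x ∈ A c n := by rw [← hA]; exact (hmem M n _).mpr ⟨x, hx, h0, rfl⟩
    obtain ⟨y, hy, -, hxy⟩ := (hmem c n _).mp hy
    have := ih (x - y) (sub_mem hx (hN hc hy)) (by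
      rw [← AddMonoid.End.coe_pow] at hxy ⊢; rw [map_sub, hxy, sub_self])
    simpa using add_mem this hy

/-- A finite family of commuting locally nilpotent operators: reduce to the common kernel. -/
theorem dcc_list (l : List (AddMonoid.End G)) (S : Set (AddMonoid.End G))
    (hcomm : ∀ r ∈ S, ∀ s ∈ l, ∀ x, r (s x) = s (r x)) (hll : ∀ r ∈ l, ∀ s ∈ l, ∀ x, r (s x) = s (r x))
    (H H₀ : AddSubgroup G) (hH : ∀ s ∈ l, ∀ x ∈ H, s x ∈ H) (hnil : ∀ s ∈ l, ∀ x ∈ H, ∃ n, (⇑s)^[n] x = 0)
    (hH₀ : ∀ x, x ∈ H₀ ↔ x ∈ H ∧ ∀ s ∈ l, s x = 0) (h : DCC S H₀) :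
    DCC (S ∪ {s | s ∈ l}) H := by
  induction l generalizing H with
  | nil =>
    have : H₀ = H := AddSubgroup.ext fun x => by simp [hH₀]
    subst this
    exact h.mono Set.subset_union_left
  | cons a l ih =>
    have hsub : ∀ s, s ∈ l → s ∈ a :: l := fun s => List.mem_cons_of_mem a
    have h1 := ih (fun r hr s hs => hcomm r hr s (hsub s hs)) (fun r hr s hs => hll r (hsub r hr) s (hsub s hs))
      (H ⊓ kerE a)
      (fun s hs x hx => ⟨hH s (hsub s hs) x hx.1, by
        show a (s x) = 0
        rw [hll a List.mem_cons_self s (hsub s hs), show a x = 0 from hx.2, map_zero]⟩)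
      (fun s hs x hx => hnil s (hsub s hs) x hx.1)
      (fun x => by
        rw [hH₀, AddSubgroup.mem_inf, mem_kerE]
        simp only [List.forall_mem_cons]
        exact and_assoc.symm)
    refine (dcc_step (S ∪ {s | s ∈ l}) a H ?_ (hH a List.mem_cons_self) (hnil a List.mem_cons_self) h1).mono ?_
    · rintro r (hr | hr) x
      · exact hcomm r hr a List.mem_cons_self x
      · exact hll r (hsub r hr) a List.mem_cons_self x
    · rintro r (rfl | hr | hr)
      · exact Or.inr List.mem_cons_self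
      · exact Or.inl hr
      · exact Or.inr (hsub r hr)

/-- Transport of the chain condition along a map which is injective on `H`. -/
theorem dcc_transport {G' : Type v} [AddCommGroup G'] (S' : Set (AddMonoid.End G')) (H' : AddSubgroup G')
    (S : Set (AddMonoid.End G)) (H : AddSubgroup G) (h : DCC S' H')
    (f : H →+ G') (hf : Function.Injective f) (hf' : ∀ x, f x ∈ H')
    (hS : ∀ N : AddSubgroup G, Inv S N → N ≤ H → Inv S' ((N.addSubgroupOf H).map f)) :
    DCC S H := by
  intro N hN hi hle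
  obtain ⟨m, hm⟩ := h (fun c => ((N c).addSubgroupOf H).map f)
    (fun i j hij => AddSubgroup.map_mono fun x hx => hN hij hx) (fun c => hS _ (hi c) (hle c))
    (fun c => by rintro _ ⟨x, -, rfl⟩; exact hf' x)
  refine ⟨m, fun c hc => le_antisymm (hN hc) fun x hx => ?_⟩
  have : f ⟨x, hle m hx⟩ ∈ ((N c).addSubgroupOf H).map f := by
    rw [show ((N c).addSubgroupOf H).map f = _ from hm c hc]
    exact AddSubgroup.mem_map.mpr ⟨⟨x, hle m hx⟩, hx, rfl⟩
  obtain ⟨y, hy, hyx⟩ := AddSubgroup.mem_map.mp this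
  rw [hf hyx] at hy
  exact hy

/-- Base case: a finite dimensional vector space. -/
theorem dcc_of_smul (k : Type w) [Field k] {V : Type v} [AddCommGroup V] [Module k V] [FiniteDimensional k V]
    (S : Set (AddMonoid.End G)) (H : AddSubgroup G) (f : H →+ V) (hf : Function.Injective f)
    (hS : ∀ N : AddSubgroup G, Inv S N → N ≤ H →
      ∀ c : k, ∀ y ∈ (N.addSubgroupOf H).map f, c • y ∈ (N.addSubgroupOf H).map f) :
    DCC S H := by
  refine dcc_transport (Set.range fun c : k => (DistribSMul.toAddMonoidHom V c : AddMonoid.End V)) ⊤ S H ?_ f hf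
    (fun _ => trivial) ?_
  · intro N hN hi _
    let N' : ℕ → (Submodule k V)ᵒᵈ := fun c =>
      OrderDual.toDual { (N c).toAddSubmonoid with smul_mem' := fun a x hx => hi c _ ⟨a, rfl⟩ x hx }
    obtain ⟨m, hm⟩ := (monotone_stabilizes_iff_artinian (R := k) (M := V)).mpr inferInstance
      ⟨N', fun i j hij x hx => hN hij hx⟩
    refine ⟨m, fun c hc => AddSubgroup.ext fun x => ?_⟩
    have := SetLike.ext_iff.mp (congrArg OrderDual.ofDual (hm c hc)) x
    exact this.symm
  · rintro N hi hle _ ⟨c, rfl⟩ y hy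
    exact hS N hi hle c y hy

end Groth.Agent.FrobNilLib
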