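import Groth.Agent.FrobNilLib.Grid
import Groth.Agent.S2467
import Groth.Prelude.Def_Wider

/-! Locally nilpotent Frobenius semilinear maps on cofinite modules are nilpotent. -/

set_option autoImplicit false
universe u v

namespace Groth.Agent.FrobNilLib

open EGA41

section Index

variable {I : Type u} {p : ℕ}

/-- Reduced exponent vectors. -/
abbrev Expo (I : Type u) (p : ℕ) : Type u := {e : I →₀ ℕ // ∀ i, e i < p}

open Classical in
/-- Multiplication by a variable on reduced exponents. -/
noncomputable def stepE (hp : 0 < p) (i : I) (e : Expo I p) : Expo I p :=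
  if h : e.1 i + 1 < p then
    ⟨e.1 + Finsupp.single i 1, fun j => by
      rcases eq_or_ne j i with rfl | hj
      · simpa using h
      · simpa [hj] using e.2 j⟩
  else ⟨e.1.erase i, fun j => by
      rcases eq_or_ne j i with rfl | hj
      · simpa using hp
      · simpa [hj] using e.2 j⟩

lemma stepE_apply_ne (hp : 0 < p) {i j : I} (hj : j ≠ i) (e : Expo I p) : (stepE hp i e).1 j = e.1 j := by
  classical
  unfold stepE; split_ifs <;> simp [hj]

lemma stepE_apply_self (hp : 0 < p) (i : I) (e : Expo I p) :
    (stepE hp i e).1 i = if e.1 i + 1 < p then e.1 i + 1 else 0 := by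
  classical
  unfold stepE; split_ifs <;> simp

lemma stepE_injective (hp : 0 < p) (i : I) : Function.Injective (stepE hp i) := fun e e' h => by
  refine Subtype.ext (Finsupp.ext fun j => ?_)
  have := congrArg (fun x : Expo I p => x.1 j) h
  rcases eq_or_ne j i with rfl | hj
  · simp only [stepE_apply_self] at this
    have := e.2 j
    have := e'.2 j
    split_ifs at * <;> omega
  · simpa [stepE_apply_ne hp hj] using this

lemma stepE_comm (hp : 0 < p) {i j : I} (hij : i ≠ j) (e : Expo I p) :
    stepE hp i (stepE hp j e) = stepE hp j (stepE hp i e) := by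
  refine Subtype.ext (Finsupp.ext fun l => ?_)
  rcases eq_or_ne l i with rfl | hi
  · rw [stepE_apply_self, stepE_apply_ne hp hij, stepE_apply_ne hp hij, stepE_apply_self]
  · rcases eq_or_ne l j with rfl | hj
    · rw [stepE_apply_ne hp hi, stepE_apply_self, stepE_apply_self, stepE_apply_ne hp hi]
    · simp [stepE_apply_ne hp hi, stepE_apply_ne hp hj]

variable {A : Type u} [CommRing A]

/-- The carry of `stepE`. -/
def carry (v : I → A) (p : ℕ) (i : I) (e : Expo I p) : A := if e.1 i + 1 < p then 1 else v i

lemma carry_pow_mul (hp : 0 < p) (v : I → A) (i : I) (e : Expo I p) :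
    carry v p i e ^ p * pMonomial v (stepE hp i e).1 = v i * pMonomial v e.1 := by
  classical
  unfold pMonomial carry stepE
  split_ifs with h
  · rw [one_pow, one_mul, Finsupp.prod_add_index' (fun _ => pow_zero _) (fun _ _ _ => pow_add _ _ _),
      Finsupp.prod_single_index (h := fun i n => v i ^ n) (pow_zero _), pow_one, mul_comm]
  · have hpe : e.1 i + 1 = p := by have := e.2 i; omega
    conv_rhs => rw [← Finsupp.erase_add_single i e.1]
    rw [Finsupp.prod_add_index' (fun _ => pow_zero _) (fun _ _ _ => pow_add _ _ _),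
      Finsupp.prod_single_index (h := fun i n => v i ^ n) (pow_zero _)]
    rw [show v i ^ p = v i ^ e.1 i * v i by rw [← pow_succ, hpe]]
    ring

variable {M : Type v} [AddCommGroup M] [Module A M] (L : Submodule A M)

/-- Operators on the Frobenius twist. -/
noncomputable def opE (hp : 0 < p) (v : I → A) (i : I) : AddMonoid.End (Expo I p →₀ L) :=
  Finsupp.liftAddHom fun e => (Finsupp.singleAddHom (stepE hp i e)).comp (DistribSMul.toAddMonoidHom L (carry v p i e))

lemma opE_single (hp : 0 < p) (v : I → A) (i : I) (e : Expo I p) (x : L) :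
    opE L hp v i (Finsupp.single e x) = Finsupp.single (stepE hp i e) (carry v p i e • x) := by
  unfold opE
  exact Finsupp.liftAddHom_apply_single _ e x

lemma opE_comm (hp : 0 < p) (v : I → A) (i j : I) (g : Expo I p →₀ L) :
    opE L hp v i (opE L hp v j g) = opE L hp v j (opE L hp v i g) := by
  induction g using Finsupp.induction_linear with
  | zero => simp
  | add a b ha hb => simp [ha, hb]
  | single e x =>
    rcases eq_or_ne i j with rfl | hij
    · rfl
    rw [opE_single, opE_single, opE_single, opE_single, stepE_comm hp hij, smul_smul, smul_smul]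
    congr 2
    unfold carry
    rw [stepE_apply_ne hp hij, stepE_apply_ne hp hij.symm, mul_comm]

lemma opE_smul (hp : 0 < p) (v : I → A) (i : I) (a : A) (g : Expo I p →₀ L) :
    opE L hp v i (a • g) = a • opE L hp v i g := by
  induction g using Finsupp.induction_linear with
  | zero => simp
  | add b c hb hc => simp [smul_add, hb, hc]
  | single e x => rw [Finsupp.smul_single, opE_single, opE_single, Finsupp.smul_single, smul_comm]

lemma opE_apply_step (hp : 0 < p) (v : I → A) (i : I) (g : Expo I p →₀ L) (e : Expo I p) :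
    opE L hp v i g (stepE hp i e) = carry v p i e • g e := by
  classical
  induction g using Finsupp.induction_linear with
  | zero => simp
  | add b c hb hc => simp [smul_add, hb, hc]
  | single e' x =>
    rw [opE_single]
    rcases eq_or_ne e' e with rfl | h
    · simp
    · rw [Finsupp.single_eq_of_ne (Ne.symm fun h' => h (stepE_injective hp i h')), Finsupp.single_eq_of_ne h.symm,
        smul_zero]

lemma opE_iterate_apply (hp : 0 < p) (v : I → A) (i : I) :
    ∀ (n : ℕ) (g : Expo I p →₀ L) (e : Expo I p),
      ((⇑(opE L hp v i))^[n] g) ((stepE hp i)^[n] e) = (∏ l ∈ Finset.range n, carry v p i ((stepE hp i)^[l] e)) • g e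
  | 0, g, e => by simp
  | n + 1, g, e => by
    rw [Function.iterate_succ_apply', Function.iterate_succ_apply', opE_apply_step, opE_iterate_apply hp v i n,
      Finset.prod_range_succ, smul_smul, mul_comm]

lemma iterate_stepE_apply (hp : 0 < p) (i : I) :
    ∀ (n : ℕ) (e : Expo I p), ((stepE hp i)^[n] e).1 i = (e.1 i + n) % p
  | 0, e => by simpa using (Nat.mod_eq_of_lt (e.2 i)).symm
  | n + 1, e => by
    rw [Function.iterate_succ_apply', stepE_apply_self, iterate_stepE_apply hp i n, ← Nat.add_assoc]
    have := Nat.mod_lt (e.1 i + n) hp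
    rw [Nat.add_mod (e.1 i + n) 1]
    split_ifs with h
    · rw [Nat.mod_eq_of_lt (show 1 < p by omega), Nat.mod_eq_of_lt h]
    · rcases Nat.lt_or_ge 1 p with h1 | h1
      · rw [Nat.mod_eq_of_lt h1, show (e.1 i + n) % p + 1 = p by omega, Nat.mod_self]
      · have hz : ∀ x, x % p = 0 := fun x => by have := Nat.mod_lt x hp; omega
        simp [hz]

lemma iterate_stepE_apply_ne (hp : 0 < p) {i j : I} (hj : j ≠ i) :
    ∀ (n : ℕ) (e : Expo I p), ((stepE hp i)^[n] e).1 j = e.1 j
  | 0, e => rfl
  | n + 1, e => by rw [Function.iterate_succ_apply', stepE_apply_ne hp hj, iterate_stepE_apply_ne hp hj n]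

/-- The `p`-th power of a variable is its value. -/
lemma opE_pow_p (hp : 0 < p) (v : I → A) (i : I) (g : Expo I p →₀ L) (e : Expo I p) :
    ((⇑(opE L hp v i))^[p] g) e = v i • g e := by
  classical
  have h1 : (stepE hp i)^[p] e = e := Subtype.ext (Finsupp.ext fun j => by
    rcases eq_or_ne j i with rfl | hj
    · rw [iterate_stepE_apply, Nat.add_mod_right, Nat.mod_eq_of_lt (e.2 _)]
    · rw [iterate_stepE_apply_ne hp hj])
  have h2 := opE_iterate_apply L hp v i p g e
  rw [h1] at h2
  rw [h2]
  congr 1
  rw [Finset.prod_eq_single (p - 1 - e.1 i) ?_ (fun h => absurd (Finset.mem_range.mpr (by omega)) h)]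
  · have := e.2 i
    unfold carry
    rw [iterate_stepE_apply, Nat.mod_eq_of_lt (by omega), if_neg (by omega)]
  · intro l hl hne
    rw [Finset.mem_range] at hl
    have := e.2 i
    unfold carry
    rw [iterate_stepE_apply, if_pos]
    rcases Nat.lt_or_ge (e.1 i + l) p with h | h
    · rw [Nat.mod_eq_of_lt h]; omega
    · rw [Nat.mod_eq_sub_mod h, Nat.mod_eq_of_lt (by omega)]; omega

end Index

variable {A : Type u} [CommRing A] [IsNoetherianRing A] [IsLocalRing A]
variable {M : Type v} [AddCommGroup M] [Module A M]

/-- Multiplication operators. -/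
def smulEnd (N : Type*) [AddCommGroup N] [Module A N] (a : A) : AddMonoid.End N :=
  DistribSMul.toAddMonoidHom N a

omit [IsNoetherianRing A] [IsLocalRing A] in
lemma smulEnd_apply {N : Type*} [AddCommGroup N] [Module A N] (a : A) (x : N) : smulEnd N a x = a • x := rfl

open IsLocalRing

omit [IsNoetherianRing A] in
lemma smul_eq_zero_of_killed {N : Type*} [AddCommGroup N] [Module A N] {d : ℕ} (t : Fin d → A)
    (ht : Ideal.span (Set.range t) = maximalIdeal A) :
    ∀ (n : ℕ) (x : N), x ∈ killed (fun i => smulEnd N (t i)) n → ∀ a ∈ maximalIdeal A ^ n, a • x = 0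
  | 0 => fun x hx a _ => by rw [mem_killed_zero.mp hx, smul_zero]
  | n + 1 => fun x hx a ha => by
    rw [pow_succ] at ha
    refine Submodule.mul_induction_on ha (fun b hb c hc => ?_) (fun b c hb hc => by rw [add_smul, hb, hc, add_zero])
    rw [← ht] at hc
    obtain ⟨r, rfl⟩ := Ideal.mem_span_range_iff_exists_fun.mp hc
    rw [Finset.mul_sum, Finset.sum_smul]
    refine Finset.sum_eq_zero fun i _ => ?_
    rw [show (b * (r i * t i)) • x = r i • (b • (t i • x)) by rw [smul_smul, smul_smul]; congr 1; ring,
      show b • t i • x = 0 from smul_eq_zero_of_killed t ht n _ (hx i) b hb, smul_zero]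

omit [IsNoetherianRing A] in
lemma mem_killed_of_smul_eq_zero {N : Type*} [AddCommGroup N] [Module A N] {d : ℕ} (t : Fin d → A)
    (ht : Ideal.span (Set.range t) = maximalIdeal A) :
    ∀ (n : ℕ) (x : N), (∀ a ∈ maximalIdeal A ^ n, a • x = 0) → x ∈ killed (fun i => smulEnd N (t i)) n
  | 0 => fun x h => mem_killed_zero.mpr (by simpa using h 1 (by simp))
  | n + 1 => fun x h i => mem_killed_of_smul_eq_zero t ht n _ fun a ha => by
    rw [smulEnd_apply, smul_smul]
    exact h _ (by rw [pow_succ]; exact Ideal.mul_mem_mul ha (ht ▸ Ideal.subset_span ⟨i, rfl⟩))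

end Groth.Agent.FrobNilLib
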