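import Groth.Agent.FrobNilLib.Dcc

/-! The dual Artin-Rees lemma for commuting operators with the descending chain condition. -/

set_option autoImplicit false
universe u

namespace Groth.Agent.FrobNilLib

variable {G : Type u} [AddCommGroup G] {d : ℕ}

/-- Elements killed by all products of `j` of the operators. -/
def killed (T : Fin d → AddMonoid.End G) : ℕ → AddSubgroup G
  | 0 => ⊥
  | j + 1 =>
    { carrier := {g | ∀ i, T i g ∈ killed T j}
      add_mem' := fun {a b} ha hb i => by rw [map_add]; exact add_mem (ha i) (hb i)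
      zero_mem' := fun i => by rw [map_zero]; exact zero_mem _
      neg_mem' := fun {a} ha i => by rw [map_neg]; exact neg_mem (ha i) }

lemma mem_killed_zero {T : Fin d → AddMonoid.End G} {g : G} : g ∈ killed T 0 ↔ g = 0 :=
  AddSubgroup.mem_bot

lemma mem_killed_succ {T : Fin d → AddMonoid.End G} {j : ℕ} {g : G} :
    g ∈ killed T (j + 1) ↔ ∀ i, T i g ∈ killed T j := Iff.rfl

lemma killed_mono (T : Fin d → AddMonoid.End G) : Monotone (killed T) := by
  refine monotone_nat_of_le_succ fun j => ?_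
  induction j with
  | zero => intro g hg; rw [mem_killed_zero] at hg; subst hg; exact zero_mem _
  | succ j ih => exact fun g hg i => ih (hg i)

lemma killed_invariant (T : Fin d → AddMonoid.End G) (r : AddMonoid.End G) (h : ∀ i x, r (T i x) = T i (r x)) :
    ∀ j, ∀ g ∈ killed T j, r g ∈ killed T j
  | 0 => fun g hg => by rw [mem_killed_zero] at hg ⊢; rw [hg, map_zero]
  | j + 1 => fun g hg i => by rw [← h]; exact killed_invariant T r h j _ (hg i)

/-- Monomials in commuting operators. -/
noncomputable def tpow (T : Fin d → AddMonoid.End G) (hT : Pairwise fun i j => Commute (T i) (T j)) (β : Fin d → ℕ) :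
    AddMonoid.End G :=
  MonoidHom.noncommPiCoprod (fun i => powersHom _ (T i))
    (fun i j hij x y => by simpa [powersHom_apply] using (hT hij).pow_pow _ _) (fun i => Multiplicative.ofAdd (β i))

variable (T : Fin d → AddMonoid.End G) (hT : Pairwise fun i j => Commute (T i) (T j))

lemma tpow_add (β γ : Fin d → ℕ) : tpow T hT (β + γ) = tpow T hT β * tpow T hT γ := by
  rw [tpow, tpow, tpow, ← map_mul]
  rfl

lemma tpow_zero : tpow T hT 0 = 1 := by rw [tpow]; exact map_one _

lemma tpow_single (i : Fin d) : tpow T hT (Pi.single i 1) = T i := by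
  rw [tpow, show (fun j => Multiplicative.ofAdd ((Pi.single i 1 : Fin d → ℕ) j)) =
    Pi.mulSingle i (Multiplicative.ofAdd 1) from funext fun j => by
      rcases eq_or_ne j i with rfl | h
      · simp
      · simp [h]]
  refine (MonoidHom.noncommPiCoprod_mulSingle _ _ _).trans ?_
  simp [powersHom_apply]

lemma tpow_add_single (β : Fin d → ℕ) (i : Fin d) (g : G) :
    tpow T hT (β + Pi.single i 1) g = tpow T hT β (T i g) := by
  rw [tpow_add, tpow_single]; rfl

lemma exists_sub_single {β : Fin d → ℕ} {j : ℕ} (h : j + 1 ≤ ∑ i, β i) :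
    ∃ (i : Fin d) (β' : Fin d → ℕ), β = β' + Pi.single i 1 ∧ j ≤ ∑ i, β' i := by
  obtain ⟨i, hi⟩ : ∃ i, β i ≠ 0 := by
    by_contra hne
    push Not at hne
    simp [hne] at h
  have he : β = Function.update β i (β i - 1) + Pi.single i 1 := funext fun l => by
    rcases eq_or_ne l i with rfl | hl
    · simp; omega
    · simp [hl]
  refine ⟨i, _, he, ?_⟩
  have : ∑ l, β l = ∑ l, Function.update β i (β i - 1) l + 1 := by
    conv_lhs => rw [he]
    simp [Finset.sum_add_distrib]
  omega

lemma mem_killed_of_tpow : ∀ (j : ℕ) (g : G), (∀ β : Fin d → ℕ, ∑ i, β i = j → tpow T hT β g = 0) → g ∈ killed T j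
  | 0 => fun g h => by
    rw [mem_killed_zero]
    simpa [tpow_zero] using h 0 (by simp)
  | j + 1 => fun g h i => mem_killed_of_tpow j _ fun β hβ => by
    rw [← tpow_add_single]
    exact h _ (by simp [Finset.sum_add_distrib, hβ])

lemma tpow_eq_zero_of_killed : ∀ (j : ℕ) (g : G), g ∈ killed T j → ∀ β : Fin d → ℕ, j ≤ ∑ i, β i → tpow T hT β g = 0
  | 0 => fun g hg β _ => by rw [mem_killed_zero.mp hg, map_zero]
  | j + 1 => fun g hg β hβ => by
    obtain ⟨i, β', rfl, hβ'⟩ := exists_sub_single hβ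
    rw [tpow_add_single]
    exact tpow_eq_zero_of_killed j _ (hg i) β' hβ'

lemma map_tpow {G' : Type*} [AddCommGroup G'] (T' : Fin d → AddMonoid.End G') (hT' : Pairwise fun i j => Commute (T' i) (T' j))
    (f : G →+ G') (hf : ∀ i g, f (T i g) = T' i (f g)) :
    ∀ (j : ℕ) (β : Fin d → ℕ), ∑ i, β i = j → ∀ g, f (tpow T hT β g) = tpow T' hT' β (f g)
  | 0, β, hβ, g => by
    have : β = 0 := funext fun i => by
      have := Finset.single_le_sum (f := β) (fun _ _ => Nat.zero_le _) (Finset.mem_univ i)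
      simp only [Pi.zero_apply]; omega
    subst this
    rw [tpow_zero, tpow_zero]; rfl
  | j + 1, β, hβ, g => by
    obtain ⟨i, β', rfl, -⟩ := exists_sub_single hβ.ge
    rw [tpow_add_single, tpow_add_single, map_tpow T' hT' f hf j β' (by simp [Finset.sum_add_distrib] at hβ; omega), hf]

/-- Dual Artin-Rees. -/
theorem artin_rees (S : Set (AddMonoid.End G)) (hTS : ∀ i, T i ∈ S) (hS : ∀ r ∈ S, ∀ i x, r (T i x) = T i (r x))
    (hdcc : DCC S ⊤) (K : AddSubgroup G) (hK : Inv S K) :
    ∃ c, ∀ j Y, (∀ γ : Fin d → ℕ, j ≤ ∑ i, γ i → tpow T hT γ Y ∈ K) →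
      ∃ k ∈ K, Y - k ∈ killed T (j + c) := by
  classical
  have hSp : ∀ r ∈ S, ∀ (β : Fin d → ℕ) (g : G), r (tpow T hT β g) = tpow T hT β (r g) := fun r hr β g =>
    map_tpow T hT T hT r (hS r hr) _ β rfl g
  let shift : Fin d → AddMonoid.End ((Fin d → ℕ) →₀ G) := fun i =>
    { toFun := fun w => w.comapDomain (fun β => β + Pi.single i 1) (add_left_injective _).injOn
      map_zero' := Finsupp.ext fun β => by simp
      map_add' := fun a b => Finsupp.ext fun β => by simp }
  have hshift : ∀ i w β, shift i w β = w (β + Pi.single i 1) := fun i w β => rfl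
  let up : AddMonoid.End G → AddMonoid.End ((Fin d → ℕ) →₀ G) := fun r => Finsupp.mapRange.addMonoidHom r
  have hup : ∀ r w β, up r w β = r (w β) := fun r w β => rfl
  have hW : DCC ((up '' S) ∪ {s | s ∈ List.ofFn shift}) (⊤ : AddSubgroup ((Fin d → ℕ) →₀ G)) := by
    let H₀ : AddSubgroup ((Fin d → ℕ) →₀ G) := ⨅ i, kerE (shift i)
    refine dcc_list (List.ofFn shift) (up '' S) ?_ ?_ ⊤ H₀ (fun _ _ _ _ => trivial) ?_ ?_ ?_
    · rintro _ ⟨r, -, rfl⟩ s hs x
      obtain ⟨i, rfl⟩ := List.mem_ofFn.mp hs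
      exact Finsupp.ext fun β => by rw [hup, hshift, hshift, hup]
    · intro r hr s hs x
      obtain ⟨i, rfl⟩ := List.mem_ofFn.mp hr
      obtain ⟨j, rfl⟩ := List.mem_ofFn.mp hs
      exact Finsupp.ext fun β => by rw [hshift, hshift, hshift, hshift, add_right_comm]
    · intro s hs x _
      obtain ⟨i, rfl⟩ := List.mem_ofFn.mp hs
      refine ⟨x.support.sup (fun β => β i) + 1, Finsupp.ext fun β => ?_⟩
      have hn : ∀ n β, (⇑(shift i))^[n] x β = x (β + n • Pi.single i 1) := fun n => by
        induction n with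
        | zero => intro β; simp
        | succ n ih => intro β; rw [Function.iterate_succ_apply', hshift, ih, succ_nsmul, add_comm (n • _), add_assoc]
      rw [hn, Finsupp.zero_apply]
      by_contra hne
      have := Finset.le_sup (f := fun β : Fin d → ℕ => β i) (Finsupp.mem_support_iff.mpr hne)
      simp only [Pi.add_apply, Pi.smul_apply, Pi.single_eq_same, smul_eq_mul, mul_one] at this
      omega
    · intro x
      simp only [H₀, AddSubgroup.mem_iInf, mem_kerE, AddSubgroup.mem_top, true_and, List.forall_mem_ofFn_iff]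
    · have hzero : ∀ w : H₀, ∀ β, β ≠ 0 → w.1 β = 0 := fun w β hβ => by
        have h1 : 0 + 1 ≤ ∑ i, β i := by
          by_contra hlt
          refine hβ (funext fun i => ?_)
          have := Finset.single_le_sum (f := β) (fun _ _ => Nat.zero_le _) (Finset.mem_univ i)
          simp only [Pi.zero_apply]; omega
        obtain ⟨i, β', rfl, -⟩ := exists_sub_single h1
        have := AddSubgroup.mem_iInf.mp w.2 i
        rw [mem_kerE] at this
        rw [← hshift, this, Finsupp.zero_apply]
      refine dcc_transport S ⊤ (up '' S) H₀ hdcc ((Finsupp.applyAddHom (0 : Fin d → ℕ)).comp H₀.subtype) ?_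
        (fun _ => trivial) ?_
      · intro a b hab
        refine Subtype.ext (Finsupp.ext fun β => ?_)
        rcases eq_or_ne β 0 with rfl | hβ
        · exact hab
        · rw [hzero a β hβ, hzero b β hβ]
      · intro N hN hNH r hr y hy
        obtain ⟨x, hx, rfl⟩ := AddSubgroup.mem_map.mp hy
        exact AddSubgroup.mem_map.mpr ⟨⟨up r x.1, hNH (hN _ ⟨r, hr, rfl⟩ _ hx)⟩, hN _ ⟨r, hr, rfl⟩ _ hx, rfl⟩
  let C : ℕ → AddSubgroup ((Fin d → ℕ) →₀ G) := fun c =>
    { carrier := {w | ∀ m ≤ c, ∀ γ : Fin d → ℕ, ∃ k ∈ K, ∀ β : Fin d → ℕ, ∑ i, β i = m → w (β + γ) = tpow T hT β k}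
      add_mem' := fun {a b} ha hb m hm γ => by
        obtain ⟨k, hk, hka⟩ := ha m hm γ
        obtain ⟨l, hl, hlb⟩ := hb m hm γ
        exact ⟨k + l, add_mem hk hl, fun β hβ => by rw [Finsupp.add_apply, map_add (tpow T hT β), hka β hβ, hlb β hβ]⟩
      zero_mem' := fun m _ γ => ⟨0, zero_mem _, fun β _ => by simp⟩
      neg_mem' := fun {a} ha m hm γ => by
        obtain ⟨k, hk, hka⟩ := ha m hm γ
        exact ⟨-k, neg_mem hk, fun β hβ => by rw [Finsupp.neg_apply, map_neg (tpow T hT β), hka β hβ]⟩ }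
  obtain ⟨c, hc⟩ := hW C (fun a b hab w hw m hm γ => hw m (hm.trans hab) γ) (fun c => by
    rintro s (⟨r, hr, rfl⟩ | hs) w hw m hm γ
    · obtain ⟨k, hk, hkw⟩ := hw m hm γ
      exact ⟨r k, hK r hr k hk, fun β hβ => by rw [hup, hkw β hβ, hSp r hr]⟩
    · obtain ⟨i, rfl⟩ := List.mem_ofFn.mp hs
      obtain ⟨k, hk, hkw⟩ := hw m hm (γ + Pi.single i 1)
      exact ⟨k, hk, fun β hβ => by rw [hshift, add_assoc, hkw β hβ]⟩) (fun _ => le_top)
  refine ⟨c, fun j Y hY => ?_⟩
  let w : (Fin d → ℕ) →₀ G := Finsupp.onFinset (Finset.piAntidiag Finset.univ (j + c))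
    (fun β => if ∑ i, β i = j + c then tpow T hT β Y else 0) fun β hβ => by
      simp only [ne_eq, ite_eq_right_iff, Classical.not_imp] at hβ
      simp [Finset.mem_piAntidiag, hβ.1]
  have hw : ∀ β, w β = if ∑ i, β i = j + c then tpow T hT β Y else 0 := fun β => rfl
  have hwC : w ∈ C c := by
    intro m hm γ
    by_cases hγ : ∑ i, γ i + m = j + c
    · refine ⟨tpow T hT γ Y, hY γ (by omega), fun β hβ => ?_⟩
      rw [hw, if_pos (by simp [Finset.sum_add_distrib]; omega), tpow_add]; rfl
    · refine ⟨0, zero_mem _, fun β hβ => ?_⟩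
      rw [hw, if_neg (by simp [Finset.sum_add_distrib]; omega), map_zero]
  rw [← hc (j + c) (by omega)] at hwC
  obtain ⟨k, hk, hkY⟩ := hwC (j + c) le_rfl 0
  refine ⟨k, hk, mem_killed_of_tpow T hT _ _ fun β hβ => ?_⟩
  have := hkY β hβ
  rw [add_zero, hw, if_pos hβ] at this
  rw [map_sub, this, sub_self]

end Groth.Agent.FrobNilLib
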