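import Groth.Agent.FrobNilLib.Frob

/-! Locally nilpotent Frobenius semilinear maps on cofinite modules are nilpotent. -/

set_option autoImplicit false
universe u v

namespace Groth.Agent.FrobNilLib

open IsLocalRing

/-- Existence of a p-basis of a field over its prime field, in usable form. -/
lemma exists_pbasis (p : ℕ) [Fact p.Prime] (K : Type u) [Field K] [CharP K p] :
    ∃ B : Set K,
      (∀ (s : Finset (Expo B p)) (c : Expo B p → K),
        ∑ e ∈ s, c e ^ p * EGA41.pMonomial (fun b : B => (b : K)) e.1 = 0 → ∀ e ∈ s, c e = 0) ∧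
      ∀ Q : Subring K, (∀ c, c ^ p ∈ Q) → (∀ b ∈ B, b ∈ Q) → Q = ⊤ := by
  classical
  let F : Subfield K := ⊥
  have hpow : ∀ y ∈ EGA41.pPowerSubalgebra p F K, ∃ c, c ^ p = y := by
    intro y hy
    induction hy using Algebra.adjoin_induction with
    | mem z hz => exact hz
    | algebraMap r =>
      have hr : (r : K) ∈ (frobenius K p).fieldRange := (bot_le : F ≤ _) r.2
      obtain ⟨c, hc⟩ := RingHom.mem_fieldRange.mp hr
      exact ⟨c, hc⟩
    | add a b _ _ ha hb =>
      obtain ⟨a, rfl⟩ := ha
      obtain ⟨b, rfl⟩ := hb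
      exact ⟨a + b, map_add (frobenius K p) a b⟩
    | mul a b _ _ ha hb =>
      obtain ⟨a, rfl⟩ := ha
      obtain ⟨b, rfl⟩ := hb
      exact ⟨a * b, mul_pow a b p⟩
  have h1 : EGA41.IsPGenerating p F (Subtype.val : ↥(Set.univ : Set K) → K) := by
    unfold EGA41.IsPGenerating
    refine eq_top_iff.mpr fun y _ => Submodule.subset_span ⟨⟨Finsupp.single ⟨y, trivial⟩ 1, fun i => ?_⟩, ?_⟩
    · rw [Finsupp.single_apply]
      have := (Fact.out : p.Prime).two_le
      split_ifs <;> omega
    · simp [EGA41.pMonomial]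
  have h2 : EGA41.IsPIndependent p F (Subtype.val : ↥(∅ : Set K) → K) := by
    unfold EGA41.IsPIndependent
    haveI : Subsingleton {e : ↥(∅ : Set K) →₀ ℕ // ∀ i, e i < p} := ⟨fun a b => Subtype.ext (Finsupp.ext fun i => i.2.elim)⟩
    refine linearIndependent_iff'.mpr fun s g hg e he => ?_
    rw [Finset.eq_singleton_iff_unique_mem.mpr ⟨he, fun x _ => Subsingleton.elim x e⟩, Finset.sum_singleton] at hg
    have : e.1 = 0 := Finsupp.ext fun i => i.2.elim
    rw [this] at hg
    simpa [EGA41.pMonomial, Subalgebra.smul_def] using hg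
  obtain ⟨B, -, -, hind, hgen⟩ := Groth.Agent.S2467.result p (k := F) Set.univ ∅ (Set.subset_univ _) h1 h2
  refine ⟨B, fun s c hc e he => ?_, fun Q hQ hB => ?_⟩
  · let g : Expo B p → EGA41.pPowerSubalgebra p F K := fun e => ⟨c e ^ p, Algebra.subset_adjoin ⟨c e, rfl⟩⟩
    have := linearIndependent_iff'.mp hind s g (by simpa [g, Subalgebra.smul_def] using hc) e he
    have h0 : c e ^ p = 0 := congrArg Subtype.val this
    exact eq_zero_of_pow_eq_zero h0
  · refine eq_top_iff.mpr fun y h0 => ?_
    clear h0
    have hy : y ∈ Submodule.span (EGA41.pPowerSubalgebra p F K)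
        (Set.range fun e : {e : B →₀ ℕ // ∀ i, e i < p} => EGA41.pMonomial (Subtype.val : B → K) e.1) := by
      rw [hgen]; trivial
    induction hy using Submodule.span_induction with
    | mem z hz =>
      obtain ⟨e, rfl⟩ := hz
      exact Subring.prod_mem _ fun i _ => pow_mem (hB _ i.2) _
    | zero => exact zero_mem _
    | add a b _ _ ha hb => exact add_mem ha hb
    | smul r z _ hz =>
      obtain ⟨c, hc⟩ := hpow r r.2
      rw [Subalgebra.smul_def, smul_eq_mul, ← hc]
      exact mul_mem (hQ c) hz

/-- The torsion submodule as a vector space over the residue field. -/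
noncomputable def torsModule {A : Type u} [CommRing A] [IsLocalRing A] (M : Type v) [AddCommGroup M] [Module A M] :
    Module (ResidueField A) ↥(LocCoh.torsionBy (maximalIdeal A) M) :=
  (Submodule.torsionBySet_isTorsionBySet (R := A) (M := M) (maximalIdeal A : Set A)).module

lemma iterate_killed {G : Type*} [AddCommGroup G] {d : ℕ} (T : Fin d → AddMonoid.End G) (i : Fin d) (m : ℕ) :
    ∀ (q : ℕ) (g : G), g ∈ killed T (m + q) → (⇑(T i))^[q] g ∈ killed T m
  | 0 => fun g hg => hg
  | q + 1 => fun g hg => by
    rw [Function.iterate_succ_apply]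
    exact iterate_killed T i m q _ (hg i)

lemma iterate_frob_smul {p : ℕ} {A : Type u} [CommRing A] [Fact p.Prime] [CharP A p] {M : Type v} [AddCommGroup M]
    [Module A M] (φ : M →ₛₗ[frobenius A p] M) :
    ∀ (e : ℕ) (a : A) (x : M), (⇑φ)^[e] (a • x) = a ^ p ^ e • (⇑φ)^[e] x
  | 0, a, x => by simp
  | e + 1, a, x => by
    rw [Function.iterate_succ_apply', iterate_frob_smul φ e, LinearMap.map_smulₛₗ, frobenius_def, ← pow_mul,
      ← pow_succ, Function.iterate_succ_apply']

variable {p : ℕ} [Fact p.Prime] {A : Type u} [CommRing A] [IsNoetherianRing A] [IsLocalRing A] [CharP A p]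
variable {M : Type v} [AddCommGroup M] [Module A M]

omit [Fact p.Prime] [CharP A p] [IsNoetherianRing A] in
lemma exists_iterate_smul_eq_zero {d : ℕ} (t : Fin d → A) (ht : Ideal.span (Set.range t) = maximalIdeal A)
    (htors : LocCoh.IsPowerTorsion (maximalIdeal A) M) (i : Fin d) (x : M) : ∃ n, ∀ m, n ≤ m → t i ^ m • x = 0 := by
  obtain ⟨n, hn⟩ := htors x
  exact ⟨n, fun m hm => hn _ (Ideal.pow_le_pow_right hm (Ideal.pow_mem_pow (ht ▸ Ideal.subset_span ⟨i, rfl⟩) m))⟩

omit [Fact p.Prime] [CharP A p] [IsNoetherianRing A] in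
lemma smulEnd_iterate {N : Type*} [AddCommGroup N] [Module A N] (a : A) :
    ∀ (n : ℕ) (x : N), (⇑(smulEnd N a))^[n] x = a ^ n • x
  | 0, x => by simp
  | n + 1, x => by rw [Function.iterate_succ_apply', smulEnd_iterate a n, smulEnd_apply, smul_smul, pow_succ']

/-- Torsion by powers of the maximal ideal is finitely generated. -/
lemma fg_torsion (hsoc : Module.Finite A ↥(LocCoh.torsionBy (maximalIdeal A) M)) :
    ∀ n, (Submodule.torsionBySet A M ((maximalIdeal A ^ n : Ideal A) : Set A)).FG := by
  have hmono : ∀ {M' : Type v} [AddCommGroup M'] [Module A M'] (N N' : Submodule A M'), N'.FG → N ≤ N' → N.FG := by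
    intro M' _ _ N N' hN hle
    have := isNoetherian_of_fg_of_noetherian N' hN
    exact isNoetherian_submodule.mp this N hle
  obtain ⟨d, t, ht⟩ := Submodule.fg_iff_exists_fin_generating_family.mp (IsNoetherian.noetherian (maximalIdeal A))
  intro n
  induction n with
  | zero =>
    refine hmono _ ⊥ Submodule.fg_bot fun x hx => ?_
    have := (Submodule.mem_torsionBySet_iff _ _).mp hx ⟨1, by simp⟩
    simpa using this
  | succ n ih =>
    let f : M →ₗ[A] (Fin d → M) := LinearMap.pi fun i => t i • LinearMap.id
    refine Submodule.fg_of_fg_map_of_fg_inf_ker f ?_ ?_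
    · refine hmono _ _ (Submodule.fg_pi (fun _ : Fin d => ih)) ?_
      rintro _ ⟨x, hx, rfl⟩ i _
      refine (Submodule.mem_torsionBySet_iff _ _).mpr ?_
      rintro ⟨a, ha⟩
      show a • (t i • x) = 0
      rw [smul_smul]
      exact (Submodule.mem_torsionBySet_iff _ _).mp hx ⟨a * t i, by
        rw [pow_succ]; exact Ideal.mul_mem_mul ha (ht ▸ Ideal.subset_span ⟨i, rfl⟩)⟩
    · refine hmono _ _ (Module.Finite.iff_fg.mp hsoc) fun x hx => ?_
      rw [LocCoh.torsionBy, Submodule.mem_torsionBySet_iff]
      rintro ⟨a, ha⟩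
      show a • x = 0
      have ha' : a ∈ Submodule.span A (Set.range t) := ht.symm ▸ ha
      clear ha
      induction ha' using Submodule.span_induction with
      | mem z hz => obtain ⟨i, rfl⟩ := hz; exact congrFun (LinearMap.mem_ker.mp hx.2) i
      | zero => exact zero_smul A x
      | add u w _ _ hu hw => rw [add_smul, hu, hw, add_zero]
      | smul r w _ hw => rw [smul_eq_mul, mul_smul, hw, smul_zero]

/-- A Frobenius semilinear, locally nilpotent map cannot span a nonzero submodule by its image. -/
theorem eq_bot_of_stable (htors : LocCoh.IsPowerTorsion (maximalIdeal A) M)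
    (hsoc : Module.Finite A ↥(LocCoh.torsionBy (maximalIdeal A) M)) (φ : M →ₛₗ[frobenius A p] M)
    (hloc : ∀ x : M, ∃ n : ℕ, (⇑φ)^[n] x = 0) (L : Submodule A M) (hL : Submodule.span A (φ '' (L : Set M)) = L) :
    L = ⊥ := by
  classical
  have hp : 0 < p := (Fact.out : p.Prime).pos
  let k := ResidueField A
  haveI : CharP k p := (CharP.charP_iff_prime_eq_zero Fact.out).mpr (by
    rw [← map_natCast (residue A), CharP.cast_eq_zero, map_zero])
  obtain ⟨B, hBind, hBgen⟩ := exists_pbasis p k
  obtain ⟨d, t, ht⟩ := Submodule.fg_iff_exists_fin_generating_family.mp (IsNoetherian.noetherian (maximalIdeal A))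
  have htm : ∀ i, t i ∈ maximalIdeal A := fun i => ht ▸ Submodule.subset_span ⟨i, rfl⟩
  choose lift hlift using IsLocalRing.residue_surjective (R := A)
  let v : Fin d ⊕ B → A := Sum.elim t (fun b => lift b)
  let w : Fin d ⊕ B → k := Sum.elim (fun _ => 1) (fun b => (b : k))
  let T : Fin d → AddMonoid.End (Expo (Fin d ⊕ B) p →₀ L) := fun i => opE L hp v (Sum.inl i)
  have hT : Pairwise fun i j => Commute (T i) (T j) := fun i j _ => AddMonoidHom.ext fun g => opE_comm L hp v _ _ g
  let π : (Expo (Fin d ⊕ B) p →₀ L) →+ M :=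
    Finsupp.liftAddHom fun e => (smulEnd M (EGA41.pMonomial v e.1) : M →+ M).comp (φ.toAddMonoidHom.comp L.subtype.toAddMonoidHom)
  have hπs : ∀ e x, π (Finsupp.single e x) = EGA41.pMonomial v e.1 • φ (x : M) := fun e x =>
    Finsupp.liftAddHom_apply_single _ e x
  have hπop : ∀ i g, π (opE L hp v i g) = v i • π g := fun i g => by
    induction g using Finsupp.induction_linear with
    | zero => simp
    | add a b ha hb => simp [ha, hb, smul_add]
    | single e x =>
      rw [opE_single, hπs, hπs, Submodule.coe_smul, LinearMap.map_smulₛₗ, frobenius_def, smul_smul, smul_smul,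
        mul_comm, carry_pow_mul hp]
  have hπsmul : ∀ (a : A) g, π (a • g) = a ^ p • π g := fun a g => by
    induction g using Finsupp.induction_linear with
    | zero => simp
    | add a b ha hb => simp [ha, hb, smul_add]
    | single e x =>
      rw [Finsupp.smul_single, hπs, hπs, Submodule.coe_smul, LinearMap.map_smulₛₗ, frobenius_def, smul_comm]
  -- the image of π is L
  have hrange : ∀ y ∈ L, ∃ g, π g = y := by
    let Q : Subring A :=
      { carrier := {a | ∀ g, ∃ g', π g' = a • π g}
        mul_mem' := fun {a b} ha hb g => by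
          obtain ⟨g₁, h₁⟩ := hb g
          obtain ⟨g₂, h₂⟩ := ha g₁
          exact ⟨g₂, by rw [h₂, h₁, smul_smul]⟩
        one_mem' := fun g => ⟨g, (one_smul A _).symm⟩
        add_mem' := fun {a b} ha hb g => by
          obtain ⟨g₁, h₁⟩ := ha g
          obtain ⟨g₂, h₂⟩ := hb g
          exact ⟨g₁ + g₂, by rw [map_add, h₁, h₂, add_smul]⟩
        zero_mem' := fun g => ⟨0, by rw [map_zero, zero_smul]⟩
        neg_mem' := fun {a} ha g => by
          obtain ⟨g₁, h₁⟩ := ha g
          exact ⟨-g₁, by rw [map_neg, h₁, neg_smul]⟩ }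
    have hQv : ∀ i, v i ∈ Q := fun i g => ⟨_, hπop i g⟩
    have hQtop : Q.map (residue A) = ⊤ := hBgen _ (fun c => ⟨lift c ^ p, fun g => ⟨_, hπsmul _ g⟩, by rw [map_pow, hlift]⟩)
      (fun b hb => ⟨_, hQv (Sum.inr ⟨b, hb⟩), hlift b⟩)
    have happrox : ∀ (n : ℕ) (a : A), ∃ q ∈ Q, a - q ∈ maximalIdeal A ^ n := by
      intro n
      induction n with
      | zero => exact fun a => ⟨0, zero_mem _, by simp⟩
      | succ n ih =>
        intro a
        obtain ⟨q, hq, hqa⟩ := Subring.mem_map.mp (show residue A a ∈ Q.map (residue A) by rw [hQtop]; trivial)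
        have hmem : a - q ∈ maximalIdeal A := Ideal.Quotient.eq.mp hqa.symm
        rw [← ht] at hmem
        obtain ⟨r, hr⟩ := Submodule.mem_span_range_iff_exists_fun A |>.mp hmem
        choose s hs hsr using fun i => ih (r i)
        refine ⟨q + ∑ i, s i * t i, add_mem hq (sum_mem fun i _ => mul_mem (hs i) (hQv (Sum.inl i))), ?_⟩
        rw [show a - (q + ∑ i, s i * t i) = ∑ i, (r i - s i) * t i by
          rw [sub_add_eq_sub_sub, ← hr]; simp [sub_mul]]
        exact sum_mem fun i _ => by rw [pow_succ]; exact Ideal.mul_mem_mul (hsr i) (htm i)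
    let R' : Submodule A M :=
      { π.range.toAddSubmonoid with
        smul_mem' := fun a y hy => by
          obtain ⟨g, rfl⟩ := hy
          obtain ⟨n, hn⟩ := htors (π g)
          obtain ⟨q, hq, hqa⟩ := happrox n a
          obtain ⟨g', hg'⟩ := hq g
          refine ⟨g', ?_⟩
          rw [hg', ← sub_eq_zero, ← sub_smul, ← neg_sub, neg_smul, hn _ hqa, neg_zero] }
    intro y hy
    rw [← hL] at hy
    exact (Submodule.span_le (p := R')).mpr (by
      rintro _ ⟨x, hx, rfl⟩
      exact ⟨Finsupp.single ⟨0, fun _ => hp⟩ ⟨x, hx⟩, by rw [hπs]; simp [EGA41.pMonomial]⟩) hy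
  -- the chain condition on the twist
  let V : Submodule A M := LocCoh.torsionBy (maximalIdeal A) M
  letI : Module k V := torsModule M
  haveI : IsScalarTower A k V := IsScalarTower.of_algebraMap_smul fun a x => rfl
  haveI : Module.Finite k V := by
    haveI : Module.Finite A V := hsoc
    exact Module.Finite.of_restrictScalars_finite A k V
  let bV := Module.finBasis k V
  let Ψ : (Expo (Fin d ⊕ B) p →₀ V) →+ (Fin (Module.finrank k V) → k) :=
    Finsupp.liftAddHom fun e =>
      { toFun := fun x l => EGA41.pMonomial w e.1 * bV.repr x l ^ p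
        map_zero' := funext fun l => by simp [zero_pow hp.ne']
        map_add' := fun a b => funext fun l => by simp [add_pow_char, mul_add] }
  have hΨs : ∀ e x l, Ψ (Finsupp.single e x) l = EGA41.pMonomial w e.1 * bV.repr x l ^ p := fun e x l => by
    exact congrFun (Finsupp.liftAddHom_apply_single _ e x) l
  have hrepr : ∀ (a : A) (x : V) l, bV.repr (a • x) l = residue A a * bV.repr x l := fun a x l => by
    rw [← IsScalarTower.algebraMap_smul k a x, map_smul, Finsupp.smul_apply, smul_eq_mul]; rfl
  have hΨsmul : ∀ (a : A) g, Ψ (a • g) = residue A a ^ p • Ψ g := fun a g => by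
    induction g using Finsupp.induction_linear with
    | zero => simp
    | add a b ha hb => simp [ha, hb, smul_add]
    | single e x =>
      funext l
      rw [Finsupp.smul_single, Pi.smul_apply, hΨs, hΨs, hrepr, mul_pow, smul_eq_mul]
      ring
  have hΨop : ∀ (b : B) g, Ψ (opE V hp v (Sum.inr b) g) = (b : k) • Ψ g := fun b g => by
    induction g using Finsupp.induction_linear with
    | zero => simp
    | add a c ha hc => simp [ha, hc, smul_add]
    | single e x =>
      funext l
      rw [opE_single, Pi.smul_apply, hΨs, hΨs, hrepr, mul_pow, smul_eq_mul]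
      have hc : residue A (carry v p (Sum.inr b) e) = carry w p (Sum.inr b) e := by
        unfold carry
        split_ifs
        · exact map_one _
        · exact hlift b
      rw [hc, ← mul_assoc, mul_comm _ (carry w p _ e ^ p), carry_pow_mul hp, mul_assoc]
      rfl
  let H₀ : AddSubgroup (Expo (Fin d ⊕ B) p →₀ L) := ⨅ i, kerE (T i)
  have htop : ∀ g ∈ H₀, ∀ e, g e ≠ 0 → (∀ i, e.1 (Sum.inl i) + 1 = p) ∧ ((g e : L) : M) ∈ V := fun g hg e hne => by
    have h0 : ∀ i, carry v p (Sum.inl i) e • g e = 0 := fun i => by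
      rw [← opE_apply_step L hp v (Sum.inl i) g e]
      rw [show opE L hp v (Sum.inl i) g = 0 from AddSubgroup.mem_iInf.mp hg i, Finsupp.zero_apply]
    have h1 : ∀ i, e.1 (Sum.inl i) + 1 = p := fun i => by
      have h := h0 i
      unfold carry at h
      split_ifs at h with hlt
      · exact absurd (by simpa using h) hne
      · have := e.2 (Sum.inl i); omega
    refine ⟨h1, ?_⟩
    show ((g e : L) : M) ∈ Submodule.torsionBySet A M (maximalIdeal A : Set A)
    rw [Submodule.mem_torsionBySet_iff]
    rintro ⟨a, ha⟩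
    show a • (g e : M) = 0
    rw [← ht] at ha
    induction ha using Submodule.span_induction with
    | mem z hz =>
      obtain ⟨i, rfl⟩ := hz
      have h := h0 i
      unfold carry at h
      rw [if_neg (by have := h1 i; omega)] at h
      exact congrArg Subtype.val h
    | zero => exact zero_smul A _
    | add u z _ _ hu hz => rw [add_smul, hu, hz, add_zero]
    | smul r z _ hz => rw [smul_eq_mul, mul_smul, hz, smul_zero]
  have htopV : ∀ g ∈ H₀, ∀ e, ((g e : L) : M) ∈ V := fun g hg e => by
    by_cases h : g e = 0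
    · rw [h]; exact zero_mem V
    · exact (htop g hg e h).2
  let toV : H₀ →+ (Expo (Fin d ⊕ B) p →₀ V) :=
    { toFun := fun g => Finsupp.onFinset g.1.support (fun e => ⟨_, htopV g.1 g.2 e⟩) fun e he => by
        rw [Finsupp.mem_support_iff]
        intro h0
        exact he (Subtype.ext (show ((g.1 e : L) : M) = 0 by rw [h0]; rfl))
      map_zero' := Finsupp.ext fun e => rfl
      map_add' := fun a b => Finsupp.ext fun e => rfl }
  have htoV : ∀ g e, ((toV g e : V) : M) = ((g.1 e : L) : M) := fun g e => rfl
  have hG : DCC ((Set.range (smulEnd (A := A) (Expo (Fin d ⊕ B) p →₀ L)) ∪ Set.range (fun b => opE L hp v (Sum.inr b))) ∪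
      {s | s ∈ List.ofFn T}) (⊤ : AddSubgroup (Expo (Fin d ⊕ B) p →₀ L)) := by
    refine dcc_list (List.ofFn T) _ ?_ ?_ ⊤ H₀ (fun _ _ _ _ => trivial) ?_ ?_ ?_
    · rintro r hr s hs x
      obtain ⟨i, rfl⟩ := List.mem_ofFn.mp hs
      rcases hr with ⟨a, rfl⟩ | ⟨b, rfl⟩
      · exact (opE_smul L hp v _ a x).symm
      · exact opE_comm L hp v _ _ x
    · intro r hr s hs x
      obtain ⟨i, rfl⟩ := List.mem_ofFn.mp hr
      obtain ⟨j, rfl⟩ := List.mem_ofFn.mp hs
      exact opE_comm L hp v _ _ x
    · intro s hs x _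
      obtain ⟨i, rfl⟩ := List.mem_ofFn.mp hs
      choose n hn using fun e => exists_iterate_smul_eq_zero t ht htors i ((x e : L) : M)
      refine ⟨p * x.support.sup n, ?_⟩
      have hit : ∀ m g e, (((⇑(T i))^[p * m] g) e : L) = t i ^ m • g e := fun m => by
        induction m with
        | zero => intro g e; simp
        | succ m ih =>
          intro g e
          rw [Nat.mul_succ, Function.iterate_add_apply, ih, opE_pow_p, smul_smul, pow_succ]
          rfl
      refine Finsupp.ext fun e => ?_
      rw [hit, Finsupp.zero_apply]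
      by_cases h : x e = 0
      · rw [h, smul_zero]
      · exact Subtype.ext (hn e _ (Finset.le_sup (Finsupp.mem_support_iff.mpr h)))
    · intro x
      simp only [H₀, AddSubgroup.mem_iInf, mem_kerE, AddSubgroup.mem_top, true_and, List.forall_mem_ofFn_iff]
    · refine dcc_of_smul k _ H₀ (Ψ.comp toV) ?_ ?_
      · refine (injective_iff_map_eq_zero _).mpr fun g hg => Subtype.ext (Finsupp.ext fun e => ?_)
        by_contra hne
        let bp : Expo (Fin d ⊕ B) p → Expo B p := fun e =>
          ⟨e.1.comapDomain Sum.inr Sum.inr_injective.injOn, fun b => e.2 _⟩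
        have hw : ∀ e : Expo (Fin d ⊕ B) p, EGA41.pMonomial w e.1 = EGA41.pMonomial (fun b : B => (b : k)) (bp e).1 := fun e => by
          unfold EGA41.pMonomial
          rw [Finsupp.prod, Finsupp.prod]
          refine ((Finset.prod_preimage' Sum.inr e.1.support Sum.inr_injective.injOn
            (fun x => w x ^ e.1 x)).trans (Finset.prod_filter_of_ne fun x _ hx => ?_)).symm
          rcases x with i | b
          · exact absurd (one_pow _) hx
          · exact ⟨b, rfl⟩
        have hsum : ∀ l, ∑ e' ∈ (toV g).support, bV.repr (toV g e') l ^ p * EGA41.pMonomial (fun b : B => (b : k)) (bp e').1 = 0 := by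
          intro l
          have := congrFun hg l
          rw [AddMonoidHom.comp_apply, ← Finsupp.sum_single (toV g), map_finsuppSum, Finsupp.sum, Finset.sum_apply,
            Pi.zero_apply] at this
          rw [← this]
          exact Finset.sum_congr rfl fun e' _ => by rw [hΨs, hw, mul_comm]
        have hinj : Set.InjOn bp ((toV g).support : Set (Expo (Fin d ⊕ B) p)) := fun a ha b hb hab => by
          have key : ∀ e' ∈ (toV g).support, g.1 e' ≠ 0 := fun e' he' h0 =>
            Finsupp.mem_support_iff.mp he' (Subtype.ext (by rw [htoV, h0]; rfl))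
          refine Subtype.ext (Finsupp.ext fun x => ?_)
          rcases x with i | b'
          · have h1 := (htop g.1 g.2 a (key a ha)).1 i
            have h2 := (htop g.1 g.2 b (key b hb)).1 i
            omega
          · exact congrArg (fun z : Expo B p => z.1 b') hab
        have he : e ∈ (toV g).support := Finsupp.mem_support_iff.mpr fun h0 => hne (Subtype.ext (by
          have := congrArg Subtype.val h0
          exact this))
        refine hne (Subtype.ext ?_)
        have hz : toV g e = 0 := bV.repr.map_eq_zero_iff.mp (Finsupp.ext fun l => by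
          let c : Expo B p → k := Function.extend (fun e' : (toV g).support => bp e'.1) (fun e' => bV.repr (toV g e'.1) l) 0
          have hce : ∀ e' ∈ (toV g).support, c (bp e') = bV.repr (toV g e') l := fun e' he' =>
            Function.Injective.extend_apply (fun a b h => Subtype.ext (hinj a.2 b.2 h)) _ _ ⟨e', he'⟩
          have := hBind ((toV g).support.image bp) c (by
            rw [Finset.sum_image hinj, ← hsum l]
            exact Finset.sum_congr rfl fun e' he' => by rw [hce e' he']) (bp e) (Finset.mem_image_of_mem _ he)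
          rw [hce e he] at this
          exact this)
        exact congrArg (fun z : V => (z : M)) hz
      · intro N hN hNH c y hy
        let C : Subring k :=
          { carrier := {c | ∀ y ∈ (N.addSubgroupOf H₀).map (Ψ.comp toV), c • y ∈ (N.addSubgroupOf H₀).map (Ψ.comp toV)}
            mul_mem' := fun {a b} ha hb y hy => by rw [mul_smul]; exact ha _ (hb y hy)
            one_mem' := fun y hy => by rwa [one_smul]
            add_mem' := fun {a b} ha hb y hy => by rw [add_smul]; exact add_mem (ha y hy) (hb y hy)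
            zero_mem' := fun y hy => by rw [zero_smul]; exact zero_mem _
            neg_mem' := fun {a} ha y hy => by rw [neg_smul]; exact neg_mem (ha y hy) }
        have hC : C = ⊤ := hBgen C (fun c y hy => by
            obtain ⟨g, hg, rfl⟩ := AddSubgroup.mem_map.mp hy
            have hm := hN _ (Or.inl ⟨lift c, rfl⟩) g.1 hg
            refine AddSubgroup.mem_map.mpr ⟨⟨_, hNH hm⟩, hm, ?_⟩
            rw [AddMonoidHom.comp_apply, show toV ⟨_, hNH hm⟩ = lift c • toV g from Finsupp.ext fun e => Subtype.ext rfl,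
              hΨsmul, hlift]
            rfl)
          (fun b hb y hy => by
            obtain ⟨g, hg, rfl⟩ := AddSubgroup.mem_map.mp hy
            have hm := hN _ (Or.inr ⟨⟨b, hb⟩, rfl⟩) g.1 hg
            refine AddSubgroup.mem_map.mpr ⟨⟨_, hNH hm⟩, hm, ?_⟩
            rw [AddMonoidHom.comp_apply, show toV ⟨_, hNH hm⟩ = opE V hp v (Sum.inr ⟨b, hb⟩) (toV g) from Finsupp.ext fun e => by
              have hsur : e = stepE hp (Sum.inr ⟨b, hb⟩) ((stepE hp (Sum.inr ⟨b, hb⟩))^[p - 1] e) := by
                refine Eq.trans ?_ (Function.iterate_succ_apply' _ _ _)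
                refine Subtype.ext (Finsupp.ext fun j => ?_)
                rw [show (p - 1).succ = p by omega]
                rcases eq_or_ne j (Sum.inr ⟨b, hb⟩) with rfl | hj
                · rw [iterate_stepE_apply, Nat.add_mod_right, Nat.mod_eq_of_lt (e.2 _)]
                · rw [iterate_stepE_apply_ne hp hj]
              rw [hsur]
              apply Subtype.ext
              rw [htoV, opE_apply_step, opE_apply_step]
              rfl, hΨop]
            rfl)
        exact (hC ▸ Subring.mem_top c : c ∈ C) y hy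
  obtain ⟨c, hc⟩ := artin_rees T hT _ (fun i => Or.inr (List.mem_ofFn.mpr ⟨i, rfl⟩))
    (by
      rintro r ((⟨a, rfl⟩ | ⟨b, rfl⟩) | hr) i x
      · exact (opE_smul L hp v _ a x).symm
      · exact opE_comm L hp v _ _ x
      · obtain ⟨j, rfl⟩ := List.mem_ofFn.mp hr
        exact opE_comm L hp v _ _ x)
    hG π.ker (by
      rintro r ((⟨a, rfl⟩ | ⟨b, rfl⟩) | hr) x hx
      · rw [AddMonoidHom.mem_ker] at hx ⊢
        rw [smulEnd_apply, hπsmul, hx, smul_zero]
      · rw [AddMonoidHom.mem_ker] at hx ⊢
        rw [hπop, hx, smul_zero]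
      · obtain ⟨j, rfl⟩ := List.mem_ofFn.mp hr
        rw [AddMonoidHom.mem_ker] at hx ⊢
        rw [hπop, hx, smul_zero])
  let tM : Fin d → AddMonoid.End M := fun i => smulEnd M (t i)
  have htM : Pairwise fun i j => Commute (tM i) (tM j) := fun i j _ => AddMonoidHom.ext fun x => smul_comm (t i) (t j) x
  let P : Submodule A M := L ⊓ Submodule.torsionBySet A M ((maximalIdeal A ^ (c + 1) : Ideal A) : Set A)
  have hcomp : ∀ n, ∀ g ∈ killed T (p * n), ∀ e, ((g e : L) : M) ∈ killed tM n := by
    intro n
    induction n with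
    | zero => intro g hg e; rw [mem_killed_zero.mp hg]; exact zero_mem _
    | succ n ih =>
      intro g hg e i
      have := ih _ (iterate_killed T i (p * n) p g hg) e
      rw [show ((⇑(T i))^[p] g) e = v (Sum.inl i) • g e from opE_pow_p L hp v _ g e] at this
      exact this
  have hP : P ≤ Submodule.span A (φ '' (P : Set M)) := by
    intro y hy
    obtain ⟨Y, hY⟩ := hrange y hy.1
    have hykill : y ∈ killed tM (c + 1) := mem_killed_of_smul_eq_zero t ht _ y fun a ha => (Submodule.mem_torsionBySet_iff _ _).mp hy.2 ⟨a, ha⟩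
    obtain ⟨k', hk', hkY⟩ := hc (c + 1) Y fun γ hγ => by
      rw [AddMonoidHom.mem_ker, map_tpow T hT tM htM π (fun i g => hπop _ g) _ γ rfl, hY]
      exact tpow_eq_zero_of_killed tM htM _ y hykill γ hγ
    have h2 : 2 ≤ p := (Fact.out : p.Prime).two_le
    have hg := killed_mono T (show c + 1 + c ≤ p * (c + 1) by nlinarith) hkY
    rw [show y = π (Y - k') by rw [map_sub, hY, AddMonoidHom.mem_ker.mp hk', sub_zero], ← Finsupp.sum_single (Y - k'),
      map_finsuppSum]
    refine sum_mem fun e _ => ?_
    simp only [hπs]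
    refine Submodule.smul_mem _ _ (Submodule.subset_span ⟨_, ⟨((Y - k') e).2, ?_⟩, rfl⟩)
    refine (Submodule.mem_torsionBySet_iff _ _).mpr ?_
    rintro ⟨a, ha⟩
    exact smul_eq_zero_of_killed t ht _ _ (hcomp _ _ hg e) a ha
  have hPe : ∀ e, P ≤ Submodule.span A ((⇑φ)^[e] '' (P : Set M)) := by
    intro e
    induction e with
    | zero => simpa using Submodule.subset_span
    | succ e ih =>
      refine hP.trans (Submodule.span_le.mpr ?_)
      rintro _ ⟨x, hx, rfl⟩
      rw [SetLike.mem_coe]
      have hx' := ih hx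
      clear hx
      induction hx' using Submodule.span_induction with
      | mem z hz => obtain ⟨u, hu, rfl⟩ := hz; exact Submodule.subset_span ⟨u, hu, Function.iterate_succ_apply' _ _ _⟩
      | zero => rw [map_zero]; exact zero_mem _
      | add a b _ _ ha hb => rw [map_add]; exact add_mem ha hb
      | smul r z _ hz => rw [LinearMap.map_smulₛₗ]; exact Submodule.smul_mem _ _ hz
  have hPfg : P.FG := by
    have := isNoetherian_of_fg_of_noetherian _ (fg_torsion (M := M) hsoc (c + 1))
    exact isNoetherian_submodule.mp this P inf_le_right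
  obtain ⟨s, hs⟩ := hPfg
  choose n hn using hloc
  have hPbot : P = ⊥ := by
    refine le_bot_iff.mp ((hPe (s.sup n)).trans (Submodule.span_le.mpr ?_))
    rintro _ ⟨x, hx, rfl⟩
    rw [SetLike.mem_coe, ← hs] at hx
    rw [SetLike.mem_coe, Submodule.mem_bot]
    induction hx using Submodule.span_induction with
    | mem z hz =>
      obtain ⟨r, hr⟩ := Nat.exists_eq_add_of_le (Finset.le_sup (f := n) hz)
      rw [hr, add_comm, Function.iterate_add_apply, hn, iterate_map_zero]
    | zero => exact iterate_map_zero φ _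
    | add a b _ _ ha hb => rw [iterate_map_add, ha, hb, add_zero]
    | smul r z _ hz => rw [iterate_frob_smul, hz, smul_zero]
  refine (Submodule.eq_bot_iff _).mpr fun x hx => ?_
  obtain ⟨m, hm⟩ := htors x
  have hk : x ∈ killed tM m := mem_killed_of_smul_eq_zero t ht m x hm
  clear hm
  induction m generalizing x with
  | zero => exact mem_killed_zero.mp hk
  | succ m ih =>
    have h1 : x ∈ killed tM 1 := fun i => mem_killed_zero.mpr (ih _ (L.smul_mem _ hx) (hk i))
    have h2 := killed_mono tM (show 1 ≤ c + 1 by omega) h1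
    have : x ∈ P := ⟨hx, (Submodule.mem_torsionBySet_iff _ _).mpr fun a => smul_eq_zero_of_killed t ht _ x h2 a.1 a.2⟩
    rw [hPbot] at this
    exact this

/-- Hartshorne-Speiser-Lyubeznik, locally nilpotent case. -/
theorem nilpotent (htors : LocCoh.IsPowerTorsion (maximalIdeal A) M)
    (hsoc : Module.Finite A ↥(LocCoh.torsionBy (maximalIdeal A) M)) (φ : M →ₛₗ[frobenius A p] M)
    (hloc : ∀ x : M, ∃ n : ℕ, (⇑φ)^[n] x = 0) : ∃ n : ℕ, ∀ x : M, (⇑φ)^[n] x = 0 := by
  obtain ⟨d, t, ht⟩ := Submodule.fg_iff_exists_fin_generating_family.mp (IsNoetherian.noetherian (maximalIdeal A))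
  let V : Submodule A M := LocCoh.torsionBy (maximalIdeal A) M
  letI : Module (ResidueField A) V := torsModule M
  haveI : IsScalarTower A (ResidueField A) V := IsScalarTower.of_algebraMap_smul fun a x => rfl
  haveI : Module.Finite (ResidueField A) V := by
    haveI : Module.Finite A V := hsoc
    exact Module.Finite.of_restrictScalars_finite A (ResidueField A) V
  have hM : DCC (Set.range (smulEnd (A := A) M) ∪ {s | s ∈ List.ofFn fun i => smulEnd M (t i)}) (⊤ : AddSubgroup M) := by
    refine dcc_list _ _ ?_ ?_ ⊤ V.toAddSubgroup (fun _ _ _ _ => trivial) ?_ ?_ ?_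
    · rintro _ ⟨a, rfl⟩ s hs x
      obtain ⟨i, rfl⟩ := List.mem_ofFn.mp hs
      exact smul_comm a (t i) x
    · intro r hr s hs x
      obtain ⟨i, rfl⟩ := List.mem_ofFn.mp hr
      obtain ⟨j, rfl⟩ := List.mem_ofFn.mp hs
      exact smul_comm (t i) (t j) x
    · intro s hs x _
      obtain ⟨i, rfl⟩ := List.mem_ofFn.mp hs
      obtain ⟨n, hn⟩ := exists_iterate_smul_eq_zero t ht htors i x
      exact ⟨n, by rw [smulEnd_iterate]; exact hn n le_rfl⟩
    · intro x
      simp only [Submodule.mem_toAddSubgroup, AddSubgroup.mem_top, true_and, List.forall_mem_ofFn_iff, smulEnd_apply]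
      simp only [V, LocCoh.torsionBy, Submodule.mem_torsionBySet_iff]
      refine ⟨fun h i => h ⟨t i, ht ▸ Submodule.subset_span ⟨i, rfl⟩⟩, fun h a => ?_⟩
      have h1 : x ∈ killed (fun i => smulEnd M (t i)) 1 := fun i => mem_killed_zero.mpr (h i)
      exact smul_eq_zero_of_killed t ht 1 x h1 a.1 (by simpa using a.2)
    · refine dcc_of_smul (ResidueField A) _ V.toAddSubgroup
        ({ toFun := fun x => (⟨x.1, x.2⟩ : V), map_zero' := rfl, map_add' := fun _ _ => rfl } : V.toAddSubgroup →+ V) ?_ ?_
      · intro a b hab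
        exact Subtype.ext (congrArg (fun z : V => (z : M)) hab)
      · intro N hN hNH c y hy
        obtain ⟨a, rfl⟩ := IsLocalRing.residue_surjective c
        obtain ⟨g, hg, rfl⟩ := AddSubgroup.mem_map.mp hy
        have hm := hN _ ⟨a, rfl⟩ g.1 hg
        exact AddSubgroup.mem_map.mpr ⟨⟨_, hNH hm⟩, hm, rfl⟩
  let Lc : ℕ → Submodule A M := fun i => Nat.rec ⊤ (fun _ L => Submodule.span A (φ '' (L : Set M))) i
  have hanti : Antitone Lc := antitone_nat_of_succ_le fun i => by
    induction i with
    | zero => exact le_top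
    | succ i ih => exact Submodule.span_mono (Set.image_mono ih)
  obtain ⟨e, he⟩ := hM (fun i => (Lc i).toAddSubgroup) (fun i j h => fun x hx => hanti h hx) (fun i => by
    rintro s (⟨a, rfl⟩ | hs) x hx
    · exact (Lc i).smul_mem a hx
    · obtain ⟨j, rfl⟩ := List.mem_ofFn.mp hs
      exact (Lc i).smul_mem (t j) hx) (fun _ => le_top)
  have hbot := eq_bot_of_stable htors hsoc φ hloc (Lc e) (Submodule.toAddSubgroup_injective (he (e + 1) (by omega)))
  refine ⟨e, fun x => ?_⟩
  have hmem : ∀ i, (⇑φ)^[i] x ∈ Lc i := fun i => by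
    induction i with
    | zero => exact Submodule.mem_top
    | succ i ih => rw [Function.iterate_succ_apply']; exact Submodule.subset_span ⟨_, ih, rfl⟩
  simpa [hbot] using hmem e

end Groth.Agent.FrobNilLib
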